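import Cfsg.Agent.H47.WeakCoset.Local
import Cfsg.Agent.Cores.ThirdMain
import Cfsg.Agent.CharBasic.Kernel

/-!
# A weakly closed central subgroup and a coset of involutions: the character relation

The numbers of `g ∈ u^G` with `(x g)₂` conjugate to `x w` are symmetric in `x` and `x w`; hence the
sum of a character of the principal block over the coset is an eigenvector with eigenvalue `1`.
-/

set_option autoImplicit false
set_option linter.unusedSectionVars false

namespace Cfsg.Agent.H47.WeakCoset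

open BlockBasic CharBasic MonoidAlgebra Finset

universe u

variable {G : Type u} [Group G] [Fintype G]

/-- The orbit of `a` under a subgroup acting by conjugation. -/
noncomputable def orb (O : Subgroup G) (a : G) : Finset G := by
  classical exact univ.filter fun b => ∃ o ∈ O, o * a * o⁻¹ = b

theorem mem_orb {O : Subgroup G} {a b : G} : b ∈ orb O a ↔ ∃ o ∈ O, o * a * o⁻¹ = b := by
  classical simp [orb]

theorem chiLin_classSum_single {χ : G → ℂ} (hχ : Cfsg.IsIrrCharacter G χ) (u x : G)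
    [DecidablePred fun g : G => IsConj u g] :
    ∑ g ∈ univ.filter (fun g : G => IsConj u g), χ (x * g) =
      ((univ.filter (fun g : G => IsConj u g)).card : ℂ) * χ u / χ 1 * χ x := by
  classical
  have hcl := IsIrr.isClassFunction hχ
  have h1 : chiLin χ (classSum u) =
      ((univ.filter (fun g : G => IsConj u g)).card : ℂ) * χ u := by
    rw [chiLin, ← nsmul_eq_mul, ← Finset.sum_const, Finset.sum_filter]
    refine Finset.sum_congr rfl fun g _ => ?_
    rw [classSum, coeff_ofFun]
    split_ifs with h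
    · obtain ⟨c, rfl⟩ := isConj_iff.1 h
      rw [one_mul, hcl u c]
    · rw [zero_mul]
  have h2 : chiLin χ (classSum u * single x 1) =
      ∑ g ∈ univ.filter (fun g : G => IsConj u g), χ (x * g) := by
    rw [chiLin, Finset.sum_filter]
    refine (Fintype.sum_equiv (Equiv.mulRight x) _ _ fun g => ?_).symm
    rw [Equiv.coe_mulRight, coeff_mul_single_apply, mul_one, mul_inv_cancel_right, classSum,
      coeff_ofFun]
    split_ifs with h
    · rw [one_mul, show x * g = x * (g * x) * x⁻¹ by group, hcl (g * x) x]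
    · rw [zero_mul]
  rw [← h2, chiLin_central_mul hχ (isCentralElt_classSum u), omega, chiLin_single, one_mul, h1]

variable {T : Sylow 2 G} {W : Subgroup G} (D : WData T W)

include D

/-- The number of `g ∈ u^G` whose product with `x` has `2`-part exactly `x w`. -/
theorem card_fibre_one [DecidableEq G] {u x w : G} [DecidablePred fun g : G => IsConj u g]
    (hx : XData T W x) (hz : XData T W (x * w))
    (hw : w ∈ W) (hu2 : orderOf u = 2) (huw : IsConj u w) :
    ((univ.filter (fun g : G => IsConj u g)).filter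
        fun g => pPart (p := 2) (x * g) = x * w).card = (orb (coreC (x * w)) x).card := by
  have hw2 : orderOf w = 2 := (H26.isConj_orderOf huw).symm.trans hu2
  have hww := H26.mul_self_of_orderOf_two hw2
  have hxw : Commute x w := XData.comm_W D hx hw
  set z := x * w with hzdef
  have hzo : ∃ k, orderOf z = 2 ^ k := ⟨1, by
    rw [pow_one]; exact H26.orderOf_two_of_mul_self hz.sq fun h => hz.notMem (h ▸ W.one_mem)⟩
  refine Finset.card_bij' (fun g _ => z * g) (fun b _ => z * b) ?_ ?_ ?_ ?_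
  · intro g hg
    simp only [mem_filter, mem_univ, true_and] at hg
    obtain ⟨hgu, hgz⟩ := hg
    have hgg := H26.mul_self_of_orderOf_two ((H26.isConj_orderOf hgu).symm.trans hu2)
    set y := pReg (p := 2) (x * g) with hy
    have hzy : z * y = x * g := hgz ▸ pPart_mul_pReg (p := 2) (x * g)
    have hyz : Commute y z := hgz ▸ (commute_pPart_pReg (p := 2) (x * g)).symm
    have hgwy : g = w * y := by
      calc g = x * (x * g) := by rw [← mul_assoc, hx.sq, one_mul]
        _ = x * (x * w * y) := by rw [hzy]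
        _ = w * y := by rw [← mul_assoc, ← mul_assoc x x, hx.sq, one_mul]
    have hinv : w * y * w⁻¹ = y⁻¹ := by
      rw [inv_eq_of_mul_eq_one_left hww]
      refine (inv_eq_of_mul_eq_one_left ?_).symm
      calc w * y * w * y = g * g := by rw [hgwy]; group
        _ = 1 := hgg
    have hyc := mem_coreC_of_inverted D hz hw hww (not_dvd_orderOf_pReg (p := 2) (x * g)) hyz hinv
    have hxinv : x * y * x⁻¹ = y⁻¹ := by
      calc x * y * x⁻¹ = (w * z) * y * (w * z)⁻¹ := by
            rw [hzdef, hxw.eq, ← mul_assoc, hww, one_mul]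
        _ = w * (z * y * z⁻¹) * w⁻¹ := by group
        _ = y⁻¹ := by rw [hyz.symm.eq, mul_inv_cancel_right, hinv]
    obtain ⟨j, hj⟩ : Odd (orderOf y) := by
      rw [Nat.odd_iff]; have := not_dvd_orderOf_pReg (p := 2) (x * g); rw [← hy] at this; omega
    refine mem_orb.2 ⟨y ^ j, pow_mem hyc j, ?_⟩
    have h1 : x * (y ^ j)⁻¹ = y ^ j * x := by
      have : x * y ^ j * x⁻¹ = (y⁻¹) ^ j := by rw [← conj_pow, hxinv]
      rw [inv_pow, mul_inv_eq_iff_eq_mul] at this
      calc x * (y ^ j)⁻¹ = y ^ j * ((y ^ j)⁻¹ * x) * (y ^ j)⁻¹ := by group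
        _ = y ^ j * (x * y ^ j) * (y ^ j)⁻¹ := by rw [this]
        _ = y ^ j * x := by group
    have h2 : ((y ^ j)⁻¹ * (y ^ j)⁻¹ : G) = y := by
      rw [← mul_inv_rev, ← pow_add]
      refine inv_eq_of_mul_eq_one_right ?_
      rw [← pow_succ, show j + j + 1 = 2 * j + 1 by ring, ← hj, pow_orderOf_eq_one]
    calc y ^ j * x * (y ^ j)⁻¹ = x * ((y ^ j)⁻¹ * (y ^ j)⁻¹) := by rw [← h1]; group
      _ = z * g := by rw [h2, hgwy, hzdef, mul_assoc x w, ← mul_assoc w w, hww, one_mul]
  · intro b hb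
    obtain ⟨o, ho, rfl⟩ := mem_orb.1 hb
    have hoz := commute_of_mem_coreC ho
    simp only [mem_filter, mem_univ, true_and]
    refine ⟨huw.trans (isConj_iff.2 ⟨o, ?_⟩), ?_⟩
    · calc o * w * o⁻¹ = o * (z * x) * o⁻¹ := by
            rw [hzdef, hxw.eq, mul_assoc w x x, hx.sq, mul_one]
        _ = z * (o * x * o⁻¹) := by rw [← mul_assoc o z, hoz.eq]; group
    · have hq : x * (o * x * o⁻¹) ∈ coreC z := by
        have := conj_mem_coreC (show Commute x z from (Commute.refl x).mul_right hxw) ho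
        rw [inv_eq_of_mul_eq_one_left hx.sq] at this
        rw [show x * (o * x * o⁻¹) = x * o * x * o⁻¹ by group]
        exact mul_mem this (inv_mem ho)
      rw [← mul_assoc x z, show x * z = z * x from ((Commute.refl x).mul_right hxw).eq, mul_assoc]
      exact pPart_mul_of (commute_of_mem_coreC hq).symm hzo (odd_orderOf_of_mem_coreC hq)
  · intro g _; rw [← mul_assoc, hz.sq, one_mul]
  · intro b _; rw [← mul_assoc, hz.sq, one_mul]

/-- The number of `g ∈ u^G` whose product with `x` has `2`-part conjugate to `x w`. -/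
theorem card_fibre [DecidableEq G] {u x w : G} [DecidablePred fun g : G => IsConj u g]
    (hx : XData T W x) (hz : XData T W (x * w))
    (hw : w ∈ W) (hu2 : orderOf u = 2) (huw : IsConj u w) :
    ((univ.filter (fun g : G => IsConj u g)).filter
        fun g => pPart (p := 2) (x * g) ∈ orb (coreC x) (x * w)).card =
      (orb (coreC x) (x * w)).card * (orb (coreC (x * w)) x).card := by
  refine (Finset.card_eq_sum_card_fiberwise (f := fun g => pPart (p := 2) (x * g))
    (t := orb (coreC x) (x * w)) (fun g hg => (mem_filter.1 hg).2)).trans ?_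
  rw [Finset.sum_congr rfl fun s hs => ?_, Finset.sum_const, smul_eq_mul]
  rw [← card_fibre_one D hx hz hw hu2 huw, filter_filter]
  obtain ⟨o, ho, rfl⟩ := mem_orb.1 hs
  have hox := commute_of_mem_coreC ho
  have hx' : ∀ g, x * (o * g * o⁻¹) = o * (x * g) * o⁻¹ := fun g => by
    rw [← mul_assoc o x g, hox.eq]; group
  refine Finset.card_bij' (fun g _ => o⁻¹ * g * o) (fun g _ => o * g * o⁻¹) ?_ ?_ ?_ ?_
  · intro g hg
    simp only [mem_filter, mem_univ, true_and] at hg ⊢
    refine ⟨hg.1.trans (isConj_iff.2 ⟨o⁻¹, by simp⟩), ?_⟩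
    have h1 := hg.2.2
    rw [show g = o * (o⁻¹ * g * o) * o⁻¹ by group, hx', pPart_conj] at h1
    exact mul_left_cancel (mul_right_cancel h1)
  · intro g hg
    simp only [mem_filter, mem_univ, true_and] at hg ⊢
    have h1 : pPart (p := 2) (x * (o * g * o⁻¹)) = o * (x * w) * o⁻¹ := by
      rw [hx', pPart_conj, hg.2]
    exact ⟨hg.1.trans (isConj_iff.2 ⟨o, rfl⟩), h1 ▸ mem_orb.2 ⟨o, ho, rfl⟩, h1⟩
  · intro g _; group
  · intro g _; group

/-- The key relation: `χ(u)/χ(1)` fixes the sum of `χ` over the coset. -/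
theorem sum_coset_relation [Fact (Nat.Prime 2)] {M : Ideal Cfsg.AlgInt}
    (hM : Cfsg.IsPModular 2 M) {χ : Cfsg.IrrCharacter G} (hχ : χ ∈ Cfsg.principalBlock M G)
    {t : G} (htT : t ∈ (T : Subgroup G)) (hX : ∀ a ∈ W, a * a = 1 → XData T W (a * t))
    {u : G} (hu : u ∈ W) (hu2 : orderOf u = 2) [DecidableEq G]
    [DecidablePred fun a : G => a ∈ W ∧ a * a = 1] :
    (χ : G → ℂ) u * ∑ a ∈ univ.filter (fun a : G => a ∈ W ∧ a * a = 1), (χ : G → ℂ) (a * t) =
      (χ : G → ℂ) 1 * ∑ a ∈ univ.filter (fun a : G => a ∈ W ∧ a * a = 1), (χ : G → ℂ) (a * t) := by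
  classical
  have hcl := IsIrr.isClassFunction χ.2
  set W0 := univ.filter (fun a : G => a ∈ W ∧ a * a = 1) with hW0
  set C := univ.filter (fun g : G => IsConj u g) with hC
  have hmem : ∀ {a : G}, a ∈ W0 ↔ a ∈ W ∧ a * a = 1 := fun {a} => by simp [hW0]
  have hmulW : ∀ {a w : G}, a ∈ W0 → w ∈ W0 → a * w ∈ W0 := fun {a w} ha hw =>
    hmem.2 ⟨W.mul_mem (hmem.1 ha).1 (hmem.1 hw).1, by
      rw [← sq, Commute.mul_pow (comm_W D (hmem.1 ha).1 (hmem.1 hw).1), sq, sq, (hmem.1 ha).2,
        (hmem.1 hw).2, mul_one]⟩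
  have hx : ∀ {a : G}, a ∈ W0 → XData T W (a * t) := fun {a} ha =>
    hX a (hmem.1 ha).1 (hmem.1 ha).2
  have hshift : ∀ {a w : G}, w ∈ W0 → a * t * w = a * w * t := fun {a w} hw => by
    rw [mul_assoc, (comm D htT (hmem.1 hw).1).eq, mul_assoc]
  have hback : ∀ {a w : G}, w ∈ W0 → a * w * w = a := fun {a w} hw => by
    rw [mul_assoc, (hmem.1 hw).2, mul_one]
  let N : G → G → ℕ := fun a w => if IsConj u w then
    (orb (coreC (a * t)) (a * w * t)).card * (orb (coreC (a * w * t)) (a * t)).card else 0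
  have hsymm : ∀ a w, w ∈ W0 → N (a * w) w = N a w := fun a w hw => by
    simp only [N, hback hw]
    split_ifs <;> ring
  -- the decomposition of the class of `u` at a coset element
  have key : ∀ a ∈ W0, (C.card : ℂ) = ∑ w ∈ W0, (N a w : ℂ) ∧
      ∑ g ∈ C, (χ : G → ℂ) (a * t * g) = ∑ w ∈ W0, (N a w : ℂ) * (χ : G → ℂ) (a * w * t) := by
    intro a ha
    have hex : ∀ g : G, ∃ w : G, g ∈ C → w ∈ W0 ∧ IsConj u w ∧
        pPart (p := 2) (a * t * g) ∈ orb (coreC (a * t)) (a * t * w) := fun g => by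
      by_cases hg : g ∈ C
      · obtain ⟨w, hw, huw, o, ho, he⟩ := decomp D (hx ha) hu hu2 (mem_filter.1 hg).2
        exact ⟨w, fun _ => ⟨hmem.2 ⟨hw, H26.mul_self_of_orderOf_two
          ((H26.isConj_orderOf huw).symm.trans hu2)⟩, huw, mem_orb.2 ⟨o, ho, he.symm⟩⟩⟩
      · exact ⟨1, fun h => absurd h hg⟩
    choose φ hφ using hex
    have hfib : ∀ w ∈ W0, (C.filter fun g => φ g = w).card = N a w := by
      intro w hw
      simp only [N]
      split_ifs with huw
      · rw [← hshift hw, ← card_fibre D (hx ha) (hshift hw ▸ hx (hmulW ha hw)) (hmem.1 hw).1 hu2 huw]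
        congr 1
        refine filter_congr fun g hg => ⟨fun h => h ▸ (hφ g hg).2.2, fun h => ?_⟩
        obtain ⟨o, ho, he⟩ := mem_orb.1 h
        obtain ⟨o', ho', he'⟩ := mem_orb.1 (hφ g hg).2.2
        exact decomp_unique D (hx ha) (hmem.1 (hφ g hg).1).1 (hmem.1 hw).1 ho' ho
          (he'.trans he.symm)
      · rw [Finset.card_eq_zero, Finset.filter_eq_empty_iff]
        exact fun g hg h => huw (h ▸ (hφ g hg).2.1)
    have hval : ∀ g ∈ C, (χ : G → ℂ) (a * t * g) = (χ : G → ℂ) (a * φ g * t) := by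
      intro g hg
      obtain ⟨hw, huw, hp⟩ := hφ g hg
      obtain ⟨o, ho, he⟩ := mem_orb.1 hp
      rw [← hshift hw]
      set w := φ g
      set x := a * t with hxdef
      have hz : XData T W (x * w) := by rw [hxdef, hshift hw]; exact hx (hmulW ha hw)
      set g' := o⁻¹ * g * o with hg'
      have hxg : x * g = o * (x * g') * o⁻¹ := by
        rw [← mul_assoc o x g', (commute_of_mem_coreC ho).eq, hg']; group
      have hp' : pPart (p := 2) (x * g') = x * w := by
        rw [hxg, pPart_conj] at he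
        exact (mul_left_cancel (mul_right_cancel he)).symm
      have hg'C : IsConj u g' := (mem_filter.1 hg).2.trans (isConj_iff.2 ⟨o⁻¹, by simp [hg']⟩)
      have hy := (commute_pPart_pReg (p := 2) (x * g')).symm
      have hzy := pPart_mul_pReg (p := 2) (x * g')
      rw [hp'] at hy hzy
      set y := pReg (p := 2) (x * g')
      have hgg := H26.mul_self_of_orderOf_two ((H26.isConj_orderOf hg'C).symm.trans hu2)
      have hgwy : g' = w * y := by
        calc g' = x * (x * g') := by rw [← mul_assoc, (hx ha).sq, one_mul]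
          _ = x * (x * w * y) := by rw [hzy]
          _ = w * y := by rw [← mul_assoc, ← mul_assoc x x, (hx ha).sq, one_mul]
      have hinv : w * y * w⁻¹ = y⁻¹ := by
        rw [inv_eq_of_mul_eq_one_left (hmem.1 hw).2]
        refine (inv_eq_of_mul_eq_one_left ?_).symm
        calc w * y * w * y = g' * g' := by rw [hgwy]; group
          _ = 1 := hgg
      obtain ⟨c, hc, hce⟩ := mem_coreC_of_inverted D hz (hmem.1 hw).1 (hmem.1 hw).2
        (not_dvd_orderOf_pReg (p := 2) (x * g')) hy hinv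
      haveI : (Cfsg.pPrimeCore 2 ↥(Subgroup.centralizer ({x * w} : Set G))).Normal := inferInstance
      have h1 := Cores.principalBlock_apply_mul hM (x := x * w) (e := 1)
        (H26.orderOf_two_of_mul_self hz.sq fun h => hz.notMem (h ▸ W.one_mem)) hχ
        (Cfsg.pPrimeCore 2 ↥(Subgroup.centralizer ({x * w} : Set G)))
        (Cores.not_dvd_card_pPrimeCore (p := 2)) hc
      rw [hxg, hcl, ← hzy]
      exact (congrArg (fun v => (χ : G → ℂ) (x * w * v)) hce).symm.trans h1
    have hmaps : ∀ g ∈ C, φ g ∈ W0 := fun g hg => (hφ g hg).1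
    refine ⟨?_, ?_⟩
    · rw [Finset.card_eq_sum_card_fiberwise hmaps, Nat.cast_sum]
      exact Finset.sum_congr rfl fun w hw => by rw [hfib w hw]
    · rw [← Finset.sum_fiberwise_of_maps_to hmaps]
      refine Finset.sum_congr rfl fun w hw => ?_
      rw [Finset.sum_congr rfl (g := fun _ => (χ : G → ℂ) (a * w * t)) (fun g hg => by
          rw [hval g (mem_filter.1 hg).1, (mem_filter.1 hg).2]), Finset.sum_const, nsmul_eq_mul,
        hfib w hw]
  have hne : (C.card : ℂ) ≠ 0 := Nat.cast_ne_zero.2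
    (Finset.card_ne_zero.2 ⟨u, mem_filter.2 ⟨mem_univ u, IsConj.refl u⟩⟩)
  have h1 : ∑ a ∈ W0, ∑ g ∈ C, (χ : G → ℂ) (a * t * g) =
      (C.card : ℂ) * (χ : G → ℂ) u / (χ : G → ℂ) 1 * ∑ a ∈ W0, (χ : G → ℂ) (a * t) := by
    rw [Finset.mul_sum]
    exact Finset.sum_congr rfl fun a _ => chiLin_classSum_single χ.2 u (a * t)
  have h2 : ∑ a ∈ W0, ∑ g ∈ C, (χ : G → ℂ) (a * t * g) =
      (C.card : ℂ) * ∑ a ∈ W0, (χ : G → ℂ) (a * t) := by
    rw [Finset.sum_congr rfl fun a ha => (key a ha).2, Finset.sum_comm, Finset.mul_sum,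
      Finset.sum_congr rfl (g := fun w => ∑ a ∈ W0, (N a w : ℂ) * (χ : G → ℂ) (a * t))
        (fun w hw => ?_), Finset.sum_comm]
    · refine Finset.sum_congr rfl fun a ha => ?_
      rw [(key a ha).1, Finset.sum_mul]
    · refine Finset.sum_bij' (fun a _ => a * w) (fun a _ => a * w) (fun a ha => hmulW ha hw)
        (fun a ha => hmulW ha hw) (fun a _ => hback hw) (fun a _ => hback hw) (fun a _ => ?_)
      rw [hsymm a w hw]
  have h0 := irr_one_ne_zero χ.2
  rw [h1] at h2
  rw [div_mul_eq_mul_div, div_eq_iff h0] at h2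
  refine mul_left_cancel₀ hne ?_
  linear_combination h2

/-- The group is not simple. -/
theorem exists_normal [Fact (Nat.Prime 2)] {t : G} (htT : t ∈ (T : Subgroup G))
    (hX : ∀ a ∈ W, a * a = 1 → XData T W (a * t)) {u : G} (hu : u ∈ W) (hu2 : orderOf u = 2) :
    ∃ N : Subgroup G, N.Normal ∧ u ∈ N ∧ N ≠ ⊤ := by
  classical
  by_contra hcon
  push Not at hcon
  obtain ⟨M, hM⟩ := exists_isPModular Nat.prime_two
  set W0 := univ.filter (fun a : G => a ∈ W ∧ a * a = 1) with hW0
  have hzero : ∀ χ ∈ Cfsg.principalBlock M G, χ ≠ trivialIrr →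
      ∑ a ∈ W0, (χ : G → ℂ) (a * t) = 0 := by
    intro χ hχ hne
    by_contra hs
    have h := mul_right_cancel₀ hs (sum_coset_relation D hM hχ htT hX hu hu2)
    obtain ⟨n, ρ, hρ, he⟩ := χ.2
    obtain ⟨N, hN, hmem, -⟩ := IsChar.exists_kernel (χ := (χ : G → ℂ)) ⟨n, ρ, he⟩
    have htop := hcon N hN ((hmem u).2 h)
    have hconst : ∀ g, (χ : G → ℂ) g = (χ : G → ℂ) 1 := fun g =>
      (hmem g).1 (htop ▸ Subgroup.mem_top g)
    have hin := classInner_irrCharacter χ trivialIrr
    rw [if_neg hne, classInner_def] at hin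
    have h1 : ∑ g : G, (χ : G → ℂ) g * (starRingEnd ℂ) ((trivialIrr (G := G) : G → ℂ) g) =
        (Nat.card G : ℂ) * (χ : G → ℂ) 1 := by
      simp [trivialIrr, hconst, Finset.sum_const, Nat.card_eq_fintype_card]
    rw [h1, ← mul_assoc, inv_mul_cancel₀ (Nat.cast_ne_zero.2 Nat.card_pos.ne'), one_mul] at hin
    exact irr_one_ne_zero χ.2 hin
  have horth : ∀ a ∈ W0, ∑ χ : Cfsg.IrrCharacter G, (if χ ∈ Cfsg.principalBlock M G then
        (χ : G → ℂ) 1 * (starRingEnd ℂ) ((χ : G → ℂ) (a * t)) else 0) = 0 := by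
    intro a ha
    have hx := hX a (mem_filter.1 ha).2.1 (mem_filter.1 ha).2.2
    rw [← finsum_mem_eq_sum_ite]
    exact blockKernel_eq_zero_of_regular_of_singular (p := 2) hM (isPBlock_principalBlock M)
      (g := 1) (h := a * t) (by rw [orderOf_one]; omega)
      (by rw [H26.orderOf_two_of_mul_self hx.sq fun h => hx.notMem (h ▸ W.one_mem)])
  have hsum : ∑ a ∈ W0, ∑ χ : Cfsg.IrrCharacter G, (if χ ∈ Cfsg.principalBlock M G then
        (χ : G → ℂ) 1 * (starRingEnd ℂ) ((χ : G → ℂ) (a * t)) else 0) = 0 :=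
    Finset.sum_eq_zero horth
  rw [Finset.sum_comm, Finset.sum_eq_single (trivialIrr (G := G))] at hsum
  · simp only [if_pos (show trivialIrr ∈ Cfsg.principalBlock M G from sameBlock_refl hM _)] at hsum
    have h1 : (1 : G) ∈ W0 := by simp [hW0]
    norm_num [trivialIrr] at hsum
    exact Finset.notMem_empty _ (hsum ▸ h1)
  · intro χ _ hne
    by_cases h : χ ∈ Cfsg.principalBlock M G
    · simp only [if_pos h]
      rw [← Finset.mul_sum, ← map_sum, hzero χ h hne, map_zero, mul_zero]
    · simp [if_neg h]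
  · simp

end Cfsg.Agent.H47.WeakCoset
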