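import Cfsg.Prelude.Def_Local
import Cfsg.Prelude.Def_Transfer
import Cfsg.Agent.Cores.PCore
import Cfsg.Agent.H48.SylowCore
import Cfsg.Agent.H26.Invol
import Cfsg.Agent.BlockBasic.PPart

/-!
# A weakly closed central subgroup and a coset of involutions: local analysis

`W ≤ Z(T)` is weakly closed in the Sylow `2`-subgroup `T`.  A "coset element" is an involution
`x ∈ T \ W` with `W ≤ O_{2',2}(C(x))`.
-/

set_option autoImplicit false
set_option linter.unusedSectionVars false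

namespace Cfsg.Agent.H47.WeakCoset

open BlockBasic

variable {G : Type*} [Group G] [Finite G] (T : Sylow 2 G) (W : Subgroup G)

/-- The hypotheses on `W`. -/
structure WData : Prop where
  le : W ≤ (T : Subgroup G) ⊓ Subgroup.centralizer ((T : Subgroup G) : Set G)
  wc : Cfsg.IsWeaklyClosed W (T : Subgroup G)

/-- The hypotheses on a coset element. -/
structure XData (x : G) : Prop where
  sq : x * x = 1
  memT : x ∈ (T : Subgroup G)
  notMem : x ∉ W
  le_core : W.subgroupOf (Subgroup.centralizer ({x} : Set G)) ≤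
    Cfsg.pPrimePCore 2 ↥(Subgroup.centralizer ({x} : Set G))

/-- `O_{2'}(C(x))` as a subgroup of `G`. -/
def coreC (x : G) : Subgroup G :=
  (Cfsg.pPrimeCore 2 ↥(Subgroup.centralizer ({x} : Set G))).map
    (Subgroup.centralizer ({x} : Set G)).subtype

theorem commute_of_mem_coreC {x o : G} (ho : o ∈ coreC x) : Commute o x := by
  obtain ⟨c, -, rfl⟩ := ho
  exact Subgroup.mem_centralizer_singleton_iff.1 c.2

theorem odd_orderOf_of_mem_coreC {x o : G} (ho : o ∈ coreC x) : ¬ 2 ∣ orderOf o := by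
  obtain ⟨c, hc, rfl⟩ := ho
  intro h
  refine Cores.not_dvd_card_pPrimeCore (p := 2)
    (G := ↥(Subgroup.centralizer ({x} : Set G))) (h.trans ?_)
  rw [Subgroup.coe_subtype, Subgroup.orderOf_coe]
  exact Subgroup.orderOf_dvd_natCard _ hc

theorem conj_mem_coreC {x o c : G} (hc : Commute c x) (ho : o ∈ coreC x) :
    c * o * c⁻¹ ∈ coreC x := by
  obtain ⟨o', ho', rfl⟩ := ho
  set cc : ↥(Subgroup.centralizer ({x} : Set G)) :=
    ⟨c, Subgroup.mem_centralizer_singleton_iff.2 hc.eq⟩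
  exact ⟨cc * o' * cc⁻¹, Subgroup.Normal.conj_mem inferInstance _ ho' cc, rfl⟩

variable {T W}
variable (D : WData T W)

include D

theorem mem_T {w : G} (hw : w ∈ W) : w ∈ (T : Subgroup G) := (D.le hw).1

theorem comm {s w : G} (hs : s ∈ (T : Subgroup G)) (hw : w ∈ W) : Commute s w :=
  Subgroup.mem_centralizer_iff.1 (D.le hw).2 s hs

theorem comm_W {v w : G} (hv : v ∈ W) (hw : w ∈ W) : Commute v w := comm D (mem_T D hv) hw

theorem orderOf_W {w : G} (hw : w ∈ W) : ∃ k, orderOf w = 2 ^ k := by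
  obtain ⟨k, hk⟩ := IsPGroup.iff_orderOf.1 T.isPGroup' ⟨w, mem_T D hw⟩
  exact ⟨k, by rwa [Subgroup.orderOf_mk] at hk⟩

theorem eq_one_of_mem_W_of_odd {w : G} (hw : w ∈ W) (h : ¬ 2 ∣ orderOf w) : w = 1 := by
  obtain ⟨k, hk⟩ := orderOf_W D hw
  rcases Nat.eq_zero_or_pos k with rfl | hk0
  · exact orderOf_eq_one_iff.1 (by simpa using hk)
  · exact absurd (hk ▸ dvd_pow_self 2 hk0.ne') h

theorem mem_norm {a : G} (h : ∀ w ∈ W, a * w * a⁻¹ ∈ (T : Subgroup G)) :
    a ∈ Subgroup.normalizer (W : Set G) := by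
  have hle : W.map (MulAut.conj a).toMonoidHom ≤ (T : Subgroup G) := by
    rintro _ ⟨w, hw, rfl⟩
    exact h w hw
  have he := D.wc.2 a hle
  rw [Subgroup.mem_normalizer_iff]
  intro w
  constructor
  · intro hw
    rw [← he]
    exact ⟨w, hw, rfl⟩
  · intro hw
    rw [← he] at hw
    obtain ⟨v, hv, hve⟩ := hw
    simp only [MulEquiv.coe_toMonoidHom, MulAut.conj_apply] at hve
    have : v = w := mul_left_cancel (mul_right_cancel hve)
    exact this ▸ hv

/-- Uniqueness of the conjugate of `W` in any Sylow subgroup. -/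
theorem uniq (S : Sylow 2 G) (hWS : ∀ w ∈ W, w ∈ (S : Subgroup G)) {a : G}
    (h : ∀ w ∈ W, a * w * a⁻¹ ∈ (S : Subgroup G)) : a ∈ Subgroup.normalizer (W : Set G) := by
  obtain ⟨g, hg⟩ := MulAction.exists_smul_eq G S T
  have hmem : ∀ s ∈ (S : Subgroup G), g * s * g⁻¹ ∈ (T : Subgroup G) := by
    intro s hs
    rw [← hg, Sylow.coe_subgroup_smul]
    exact ⟨s, hs, rfl⟩
  have h1 : g ∈ Subgroup.normalizer (W : Set G) := mem_norm D fun w hw => hmem w (hWS w hw)
  have h2 : g * a ∈ Subgroup.normalizer (W : Set G) := mem_norm D fun w hw => by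
    simpa [mul_assoc] using hmem _ (h w hw)
  simpa using mul_mem (inv_mem h1) h2

/-- Conjugates of `W` inside a subgroup are conjugate in that subgroup. -/
theorem conj_in (H : Subgroup G) (hWH : W ≤ H) {a : G} (ha : ∀ w ∈ W, a * w * a⁻¹ ∈ H) :
    ∃ c ∈ H, c * a ∈ Subgroup.normalizer (W : Set G) := by
  have hW2 : IsPGroup 2 ↥W := T.isPGroup'.to_le fun w hw => mem_T D hw
  have hle : W.map (MulAut.conj a).toMonoidHom ≤ H := by
    rintro _ ⟨w, hw, rfl⟩
    exact ha w hw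
  obtain ⟨P₁, hP₁⟩ := (IsPGroup.of_equiv hW2 (Subgroup.subgroupOfEquivOfLe hWH).symm).exists_le_sylow
  obtain ⟨P₂, hP₂⟩ := (IsPGroup.of_equiv (hW2.map (MulAut.conj a).toMonoidHom)
    (Subgroup.subgroupOfEquivOfLe hle).symm).exists_le_sylow
  obtain ⟨c, hc⟩ := MulAction.exists_smul_eq ↥H P₂ P₁
  obtain ⟨S, hS⟩ := (P₁.isPGroup'.map H.subtype).exists_le_sylow
  refine ⟨c, c.2, uniq D S (fun w hw => hS ⟨⟨w, hWH hw⟩, hP₁ hw, rfl⟩) fun w hw => ?_⟩
  have hm : (⟨a * w * a⁻¹, ha w hw⟩ : ↥H) ∈ (P₂ : Subgroup ↥H) := hP₂ ⟨w, hw, rfl⟩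
  have hm' : c * ⟨a * w * a⁻¹, ha w hw⟩ * c⁻¹ ∈ (P₁ : Subgroup ↥H) := by
    rw [← hc, Sylow.coe_subgroup_smul]
    exact ⟨_, hm, rfl⟩
  have := hS (Subgroup.mem_map_of_mem H.subtype hm')
  simpa [mul_assoc] using this

/-- `W` is strongly closed. -/
theorem strong {w a : G} (hw : w ∈ W) (h : a * w * a⁻¹ ∈ (T : Subgroup G)) : a * w * a⁻¹ ∈ W := by
  set H := Subgroup.centralizer ({a * w * a⁻¹} : Set G) with hH
  obtain ⟨c, hc, hn⟩ := conj_in D H
    (fun v hv => Subgroup.mem_centralizer_singleton_iff.2 (comm D h hv).symm.eq)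
    (a := a) (fun v hv => Subgroup.mem_centralizer_singleton_iff.2 (by
      simpa using ((comm_W D hv hw).map (MulAut.conj a).toMonoidHom).eq))
  have h1 := (Subgroup.mem_normalizer_iff.1 hn w).1 hw
  have h2 : Commute c (a * w * a⁻¹) := Subgroup.mem_centralizer_singleton_iff.1 hc
  have h3 : c * a * w * (c * a)⁻¹ = a * w * a⁻¹ := by
    rw [show c * a * w * (c * a)⁻¹ = c * (a * w * a⁻¹) * c⁻¹ by group, h2.eq]
    group
  rwa [h3] at h1

variable {x : G} (hx : XData T W x)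

include hx

theorem XData.comm_W {w : G} (hw : w ∈ W) : Commute x w := comm D hx.memT hw

/-- Conjugates of `W` centralised by `x` are conjugate under `O_{2'}(C(x))`. -/
theorem conj_core {a : G} (ha : ∀ w ∈ W, Commute (a * w * a⁻¹) x) :
    ∃ o ∈ coreC x, o⁻¹ * a ∈ Subgroup.normalizer (W : Set G) := by
  set C := Subgroup.centralizer ({x} : Set G) with hC
  have hWC : W ≤ C := fun w hw =>
    Subgroup.mem_centralizer_singleton_iff.2 (XData.comm_W D hx hw).symm.eq
  obtain ⟨c, hc, hn⟩ := conj_in D C hWC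
    (a := a) (fun w hw => Subgroup.mem_centralizer_singleton_iff.2 (ha w hw).eq)
  have hW2 : IsPGroup 2 ↥W := T.isPGroup'.to_le fun w hw => mem_T D hw
  obtain ⟨P, hP⟩ := (IsPGroup.of_equiv hW2 (Subgroup.subgroupOfEquivOfLe hWC).symm).exists_le_sylow
  obtain ⟨d, hd, n, hn', hcdn⟩ := H48.exists_mul_normalizer P (⟨c, hc⟩⁻¹ : ↥C)
  refine ⟨d, ⟨d, hd, rfl⟩, ?_⟩
  obtain ⟨S, hS⟩ := (P.isPGroup'.map C.subtype).exists_le_sylow
  have hWS : ∀ w ∈ W, w ∈ (S : Subgroup G) := fun w hw => hS ⟨⟨w, hWC hw⟩, hP hw, rfl⟩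
  have hnN : (n : G) ∈ Subgroup.normalizer (W : Set G) := uniq D S hWS fun w hw => by
    have hmem : (⟨w, hWC hw⟩ : ↥C) ∈ H48.sylowCore P := ⟨hP hw, hx.le_core hw⟩
    exact hS ⟨n * ⟨w, hWC hw⟩ * n⁻¹, ((Subgroup.mem_normalizer_iff.1 hn' _).1 hmem).1, rfl⟩
  have he : (d : G)⁻¹ * a = (n : G) * (c * a) := by
    have h1 := congrArg Subtype.val hcdn
    push_cast at h1
    rw [show (n : G) * (c * a) = (n : G) * c * a by group]
    congr 1
    calc (d : G)⁻¹ = (d : G)⁻¹ * c⁻¹ * c := by group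
      _ = (n : G) * c := by rw [h1]; group
  rw [he]
  exact mul_mem hnN hn

/-- The `2`-part of the product with a conjugate of an element of `W`. -/
theorem decomp {u g : G} (hu : u ∈ W) (hu2 : orderOf u = 2) (hg : IsConj u g) :
    ∃ w ∈ W, IsConj u w ∧ ∃ o ∈ coreC x, pPart (p := 2) (x * g) = o * (x * w) * o⁻¹ := by
  have hg2 : orderOf g = 2 := (H26.isConj_orderOf hg).symm.trans hu2
  have hgg := H26.mul_self_of_orderOf_two hg2
  set d := x * g with hd
  set s := pPart (p := 2) d with hs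
  set y := pReg (p := 2) d with hy
  have hdsy : s * y = d := pPart_mul_pReg d
  have hsy : Commute s y := commute_pPart_pReg d
  have hyodd : ¬ 2 ∣ orderOf y := not_dvd_orderOf_pReg d
  obtain ⟨k, hk⟩ := exists_orderOf_pPart (p := 2) d
  rw [← hs] at hk
  have hxinv : x⁻¹ = x := inv_eq_of_mul_eq_one_left hx.sq
  have hinv : x * d * x⁻¹ = d⁻¹ := by
    rw [hd, mul_inv_rev, inv_eq_of_mul_eq_one_left hgg, hxinv, ← mul_assoc, hx.sq, one_mul]
  have hxs : x * s * x⁻¹ = s⁻¹ := by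
    rw [hs, ← pPart_conj, hinv, pPart_inv]
  have hxy : x * y * x⁻¹ = y⁻¹ := by
    have h1 : x * (s * y) * x⁻¹ = x * s * x⁻¹ * (x * y * x⁻¹) := by group
    rw [hdsy, hinv, hxs, ← hdsy, hsy.eq, mul_inv_rev] at h1
    exact (mul_left_cancel h1).symm
  set v := x * s with hv
  have hvv : v * v = 1 := by
    rw [hv]
    calc x * s * (x * s) = x * s * x⁻¹ * s := by rw [hxinv]; group
      _ = 1 := by rw [hxs, inv_mul_cancel]
  have hgvy : g = v * y := by
    rw [hv, mul_assoc, hdsy, hd, ← mul_assoc, hx.sq, one_mul]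
  have hvg : IsConj v g := by
    refine H26.isConj_of_odd hvv hgg ?_
    rw [hgvy, ← mul_assoc, hvv, one_mul, Nat.odd_iff]
    omega
  have hpg : IsPGroup 2 (Subgroup.closure ({x, v} : Set G)) :=
    H26.isPGroup_closure_pair hx.sq hvv (a := k)
      (by rw [hv, ← mul_assoc, hx.sq, one_mul, ← hk, pow_orderOf_eq_one])
  obtain ⟨S, hS⟩ := hpg.exists_le_sylow
  obtain ⟨h, hh⟩ := MulAction.exists_smul_eq G S T
  have hmem : ∀ s ∈ ({x, v} : Set G), h * s * h⁻¹ ∈ (T : Subgroup G) := by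
    intro s hs
    rw [← hh, Sylow.coe_subgroup_smul]
    exact ⟨s, hS (Subgroup.subset_closure hs), rfl⟩
  obtain ⟨b, hb⟩ := isConj_iff.1 (hg.trans hvg.symm)
  have hw₁ : h * v * h⁻¹ ∈ W := by
    have := strong D hu (a := h * b) (by
      have := hmem v (by simp)
      rw [← hb] at this
      simpa [mul_assoc] using this)
    rw [← hb]
    simpa [mul_assoc] using this
  obtain ⟨o, ho, hn⟩ := conj_core D hx (a := h⁻¹) (fun w hw => by
    have h1 := (comm D (hmem x (by simp)) hw).symm.map (MulAut.conj h⁻¹).toMonoidHom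
    simpa [MulAut.conj_apply, mul_assoc] using h1)
  have hw : o⁻¹ * v * o ∈ W := by
    have := (Subgroup.mem_normalizer_iff.1 hn _).1 hw₁
    simpa [mul_assoc] using this
  refine ⟨o⁻¹ * v * o, hw, (hg.trans hvg.symm).trans (isConj_iff.2 ⟨o⁻¹, by simp⟩), o, ho, ?_⟩
  calc s = x * v := by rw [hv, ← mul_assoc, hx.sq, one_mul]
    _ = o * (x * (o⁻¹ * v * o)) * o⁻¹ := by
      rw [← mul_assoc o x, (commute_of_mem_coreC ho).eq]
      group

/-- The coset element in the decomposition is unique. -/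
theorem decomp_unique {w w' o o' : G} (hw : w ∈ W) (hw' : w' ∈ W) (ho : o ∈ coreC x)
    (ho' : o' ∈ coreC x) (h : o * (x * w) * o⁻¹ = o' * (x * w') * o'⁻¹) : w = w' := by
  set q := o'⁻¹ * o with hq
  have hqc : q ∈ coreC x := mul_mem (inv_mem ho') ho
  have h1 : q * w * q⁻¹ = w' := by
    have h2 : q * (x * w) * q⁻¹ = x * w' := by
      calc q * (x * w) * q⁻¹ = o'⁻¹ * (o * (x * w) * o⁻¹) * o' := by rw [hq]; group
        _ = x * w' := by rw [h]; group
    rw [← mul_assoc q x w, (commute_of_mem_coreC hqc).eq] at h2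
    exact mul_left_cancel (a := x) (by rw [← h2]; group)
  have h2 : w' * w⁻¹ ∈ coreC x := by
    rw [← h1, show q * w * q⁻¹ * w⁻¹ = q * (w * q⁻¹ * w⁻¹) by group]
    exact mul_mem hqc (conj_mem_coreC (XData.comm_W D hx hw).symm (inv_mem hqc))
  exact (mul_inv_eq_one.1 (eq_one_of_mem_W_of_odd D (mul_mem hw' (inv_mem hw))
    (odd_orderOf_of_mem_coreC h2))).symm

omit hx in
/-- For a coset element `z` and `w ∈ W`, an element of odd order of `C(z)` inverted by `w` lies in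
`O_{2'}(C(z))`. -/
theorem mem_coreC_of_inverted {z w y : G} (hz : XData T W z) (hw : w ∈ W) (hw2 : w * w = 1)
    (hy : ¬ 2 ∣ orderOf y) (hyz : Commute y z) (hinv : w * y * w⁻¹ = y⁻¹) :
    y ∈ coreC z := by
  obtain ⟨j, hj⟩ : Odd (orderOf y) := by rw [Nat.odd_iff]; omega
  have hyw : ∀ n : ℕ, w * y ^ n = (y ^ n)⁻¹ * w := fun n => by
    have : w * y ^ n * w⁻¹ = (y⁻¹) ^ n := by rw [← conj_pow, hinv]
    rw [inv_pow] at this
    exact mul_inv_eq_iff_eq_mul.1 this
  have hconj : (y ^ j) * w * (y ^ j)⁻¹ = w * y := by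
    have h1 : w * (y ^ j)⁻¹ = y ^ j * w := by
      calc w * (y ^ j)⁻¹ = (y ^ j * (y ^ j)⁻¹) * w * (y ^ j)⁻¹ := by group
        _ = y ^ j * (w * y ^ j) * (y ^ j)⁻¹ := by rw [hyw]; group
        _ = y ^ j * w := by group
    rw [← h1, mul_assoc, ← mul_inv_rev, ← pow_add]
    congr 1
    refine inv_eq_of_mul_eq_one_right ?_
    rw [← pow_succ, show j + j + 1 = 2 * j + 1 by ring, ← hj, pow_orderOf_eq_one]
  obtain ⟨o, ho, hn⟩ := conj_core D hz (a := y ^ j) (fun v hv => by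
    have hvz : Commute v z := (XData.comm_W D hz hv).symm
    exact ((hyz.pow_left j).mul_left hvz).mul_left (hyz.pow_left j).inv_left)
  set w' := o⁻¹ * (w * y) * o with hw'
  have hw'W : w' ∈ W := by
    have := (Subgroup.mem_normalizer_iff.1 hn w).1 hw
    rw [hw', ← hconj]
    simpa [mul_assoc] using this
  set a := w * w' with ha
  set q := w'⁻¹ * o * w' * o⁻¹ with hq
  have hqc : q ∈ coreC z := by
    have := conj_mem_coreC ((XData.comm_W D hz hw'W).symm.inv_left) ho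
    rw [inv_inv] at this
    exact mul_mem this (inv_mem ho)
  have hyaq : y = a * q := by
    calc y = w * (w * y) := by rw [← mul_assoc, hw2, one_mul]
      _ = w * (o * w' * o⁻¹) := by rw [hw']; group
      _ = a * q := by rw [ha, hq]; group
  set C := Subgroup.centralizer ({z} : Set G) with hC
  have haC : a ∈ C := Subgroup.mem_centralizer_singleton_iff.2
    (((XData.comm_W D hz hw).symm.mul_left (XData.comm_W D hz hw'W).symm).eq)
  obtain ⟨q', hq', hqe⟩ := hqc
  simp only [Subgroup.coe_subtype] at hqe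
  set f := QuotientGroup.mk' (Cfsg.pPrimeCore 2 ↥C)
  have hyC : y ∈ C := Subgroup.mem_centralizer_singleton_iff.2 hyz.eq
  have hfy : f ⟨y, hyC⟩ = f ⟨a, haC⟩ := by
    have : (⟨y, hyC⟩ : ↥C) = ⟨a, haC⟩ * q' := Subtype.ext (by push_cast; rw [hqe, hyaq])
    rw [this, map_mul, (QuotientGroup.eq_one_iff q').2 hq' |> fun h => (show f q' = 1 from h),
      mul_one]
  have hfa : f ⟨a, haC⟩ = 1 := by
    obtain ⟨k, hk⟩ := orderOf_W D (mul_mem hw hw'W)
    have h1 : orderOf (f ⟨a, haC⟩) ∣ 2 ^ k := hk ▸ (orderOf_map_dvd f _).trans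
      (by rw [Subgroup.orderOf_mk])
    have h2 : orderOf (f ⟨a, haC⟩) ∣ orderOf y := hfy ▸ (orderOf_map_dvd f _).trans
      (by rw [Subgroup.orderOf_mk])
    exact orderOf_eq_one_iff.1 (Nat.eq_one_of_dvd_coprimes
      ((Nat.prime_two.coprime_iff_not_dvd.2 hy).pow_left k) h1 h2)
  exact ⟨⟨y, hyC⟩, (QuotientGroup.eq_one_iff _).1 (hfy.trans hfa), rfl⟩

end Cfsg.Agent.H47.WeakCoset
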